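import Mathlib
import Cfsg.Prelude.Def_KGroupFacts

/-!
# Subgroups of `Aut G` containing `Inn G`: reduction to standard cosets (helper228, for S3481)

`Φ : Γ →* Aut G` ("field automorphisms"), `D ≤ Aut G` ("diagonal automorphisms") with `|D : D ∩ Inn| ∈ {1, 3}`,
`Aut G = Inn G · D · Φ(Γ)`.

* `Cos A ρ` : up to conjugation `A` contains the coset `Inn · ρ`;
* `red` : three alternatives for `Inn < A`.
-/

set_option autoImplicit false

namespace Cfsg.Agent.H228.TE6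

open Cfsg

section Abs

variable {G : Type*} [Group G]

/-- the conjugacy of complements of a group of order three -/
theorem abs_conj {b r : G} (hb3 : b ^ 3 = 1) (hb1 : b ≠ 1) (hr : ∃ i : ℤ, r * b * r⁻¹ = b ^ i) {ℓ : ℕ}
    (hℓ : ℓ.Prime) (hrℓ : r ^ ℓ = 1) (hbr : (b * r) ^ ℓ = 1) : ℓ = 3 ∨ b * (b * r) * b⁻¹ = r := by
  have hob : orderOf b = 3 := by
    have := Fact.mk Nat.prime_three
    exact orderOf_eq_prime hb3 hb1
  obtain ⟨i, hi⟩ := hr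
  have h1 : r * b * r⁻¹ = b ^ (i % 3) := by
    rw [hi]
    have := zpow_mod_orderOf b i
    rw [hob] at this
    exact_mod_cast this.symm
  have h2 : i % 3 = 0 ∨ i % 3 = 1 ∨ i % 3 = 2 := by omega
  rcases h2 with h2 | h2 | h2
  · exfalso
    rw [h2, zpow_zero, mul_inv_eq_one] at h1
    exact hb1 (by simpa using h1)
  · left
    rw [h2, zpow_one, mul_inv_eq_iff_eq_mul] at h1
    have hc : Commute b r := h1.symm
    rw [hc.mul_pow, hrℓ, mul_one] at hbr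
    have h3 : orderOf b ∣ ℓ := orderOf_dvd_of_pow_eq_one hbr
    rw [hob] at h3
    exact ((Nat.prime_dvd_prime_iff_eq Nat.prime_three hℓ).1 h3).symm
  · right
    rw [h2] at h1
    have h3 : b ^ (2 : ℤ) = b⁻¹ := by
      rw [eq_inv_iff_mul_eq_one]
      have : b ^ (2 : ℤ) = b ^ 2 := by norm_cast
      rw [this, ← pow_succ]
      exact hb3
    rw [h3] at h1
    have h4 : r * b⁻¹ * r⁻¹ = b := by
      have := congrArg (·⁻¹) h1
      simpa [mul_assoc] using this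
    calc b * (b * r) * b⁻¹ = b * b * (r * b⁻¹ * r⁻¹) * r := by group
      _ = b ^ 3 * r := by rw [h4, pow_succ, pow_two]
      _ = r := by rw [hb3, one_mul]

end Abs

variable {G : Type*} [Group G]

/-- up to conjugation `A` contains the coset of `ρ` -/
def Cos (A : Subgroup (MulAut G)) (ρ : MulAut G) : Prop :=
  ∃ β : MulAut G, ∀ x : G, β * (MulAut.conj x * ρ) * β⁻¹ ∈ A

theorem Cos.order {A : Subgroup (MulAut G)} {ρ : MulAut G} (h : Cos A ρ)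
    (hord : ∀ a ∈ A, ∃ y : G, orderOf y = orderOf a) (x : G) : ∃ y : G, orderOf y = orderOf (MulAut.conj x * ρ) := by
  obtain ⟨β, hβ⟩ := h
  obtain ⟨y, hy⟩ := hord _ (hβ x)
  refine ⟨y, ?_⟩
  rw [hy]
  exact orderOf_injective (MulAut.conj β).toMonoidHom (MulAut.conj β).injective (MulAut.conj x * ρ)

theorem commute_conj {ρ : MulAut G} {x : G} (hx : ρ x = x) : Commute (MulAut.conj x) ρ := by
  apply MulEquiv.ext
  intro g
  show MulAut.conj x (ρ g) = ρ (MulAut.conj x g)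
  rw [MulAut.conj_apply, MulAut.conj_apply, map_mul, map_mul, map_inv, hx]

/-- an element of the coset fixing an element of order prime to it -/
theorem Cos.order_mul (hinj : Function.Injective (MulAut.conj : G →* MulAut G)) {A : Subgroup (MulAut G)}
    {ρ : MulAut G} (h : Cos A ρ) (hord : ∀ a ∈ A, ∃ y : G, orderOf y = orderOf a) {x : G} (hx : ρ x = x)
    (hc : (orderOf x).Coprime (orderOf ρ)) : ∃ y : G, orderOf y = orderOf x * orderOf ρ := by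
  obtain ⟨y, hy⟩ := h.order hord x
  refine ⟨y, ?_⟩
  have ho : orderOf (MulAut.conj x) = orderOf x := orderOf_injective _ hinj x
  rw [hy, (commute_conj hx).orderOf_mul_eq_mul_orderOf_of_coprime (by rw [ho]; exact hc), ho]

theorem cos_of_mem {A : Subgroup (MulAut G)} (hA : Inn G ≤ A) {ρ : MulAut G} (h : ρ ∈ A) : Cos A ρ :=
  ⟨1, fun x => by rw [one_mul, inv_one, mul_one]; exact mul_mem (hA ⟨x, rfl⟩) h⟩

section Red

variable [Finite G] {Γ : Type*} [Group Γ] [Finite Γ] (Φ : Γ →* MulAut G) (D : Subgroup (MulAut G))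
  (hidx : ((Inn G).subgroupOf D).index = 1 ∨ ((Inn G).subgroupOf D).index = 3)

include hidx

section Eta

variable {η : MulAut G} (hη : η ∈ D) (hn : η ∉ Inn G)

include hη hn

theorem index_three : ((Inn G).subgroupOf D).index = 3 := by
  rcases hidx with h | h
  · exfalso
    rw [Subgroup.index_eq_one] at h
    apply hn
    have h3 : (⟨η, hη⟩ : ↥D) ∈ (Inn G).subgroupOf D := by rw [h]; trivial
    exact h3
  · exact h

theorem cube_mem : η ^ 3 ∈ Inn G := by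
  have h1 := Subgroup.pow_index_mem ((Inn G).subgroupOf D) (⟨η, hη⟩ : ↥D)
  rw [index_three D hidx hη hn] at h1
  exact h1

theorem exists_zpow {ζ : MulAut G} (hζ : ζ ∈ D) : ∃ i : ℤ, (η ^ i)⁻¹ * ζ ∈ Inn G := by
  have hpr : Fact (Nat.Prime 3) := ⟨Nat.prime_three⟩
  set N := (Inn G).subgroupOf D with hN
  have hcard : Nat.card (↥D ⧸ N) = 3 := by
    rw [← Subgroup.index_eq_card]
    exact index_three D hidx hη hn
  have hne : (QuotientGroup.mk (⟨η, hη⟩ : ↥D) : ↥D ⧸ N) ≠ 1 := by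
    rw [Ne, QuotientGroup.eq_one_iff]
    exact hn
  have h1 := mem_zpowers_of_prime_card (g := (QuotientGroup.mk (⟨η, hη⟩ : ↥D) : ↥D ⧸ N))
    (g' := QuotientGroup.mk (⟨ζ, hζ⟩ : ↥D)) hcard hne
  obtain ⟨i, hi⟩ := h1
  refine ⟨i, ?_⟩
  have h2 : (QuotientGroup.mk ((⟨η, hη⟩ : ↥D) ^ i) : ↥D ⧸ N) = QuotientGroup.mk (⟨ζ, hζ⟩ : ↥D) := hi
  rw [QuotientGroup.eq] at h2
  exact h2

/-- all diagonal automorphisms -/
theorem D_le {A : Subgroup (MulAut G)} (hA : Inn G ≤ A) (hηA : η ∈ A) : D ≤ A := by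
  intro ζ hζ
  obtain ⟨i, hi⟩ := exists_zpow D hidx hη hn hζ
  have h1 : ζ = η ^ i * ((η ^ i)⁻¹ * ζ) := by group
  rw [h1]
  exact mul_mem (zpow_mem hηA i) (hA hi)

end Eta

variable (hD : ∀ σ : Γ, ∀ a ∈ D, Φ σ * a * (Φ σ)⁻¹ ∈ D)

include hD in
omit [Finite G] [Finite Γ] hidx in
theorem exists_pow {a : MulAut G} (ha : a ∈ D) (σ : Γ) (n : ℕ) : ∃ a' ∈ D, (a * Φ σ) ^ n = a' * Φ (σ ^ n) := by
  induction n with
  | zero => exact ⟨1, one_mem _, by rw [pow_zero, pow_zero, map_one, mul_one]⟩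
  | succ n ih =>
    obtain ⟨a', h1, h2⟩ := ih
    refine ⟨a' * (Φ (σ ^ n) * a * (Φ (σ ^ n))⁻¹), mul_mem h1 (hD _ _ ha), ?_⟩
    rw [pow_succ, h2, pow_succ, map_mul]
    group

include hD in
/-- **The three alternatives.** -/
theorem red (hall : ∀ α : MulAut G, ∃ g : G, ∃ a ∈ D, ∃ σ : Γ, α = MulAut.conj g * a * Φ σ)
    {A : Subgroup (MulAut G)} (hA : Inn G ≤ A) (hne : ¬ A ≤ Inn G) :
    ((∃ η ∈ D, η ∉ Inn G) ∧ D ≤ A) ∨ (∃ σ : Γ, (orderOf σ).Prime ∧ Cos A (Φ σ)) ∨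
    (∃ σ : Γ, orderOf σ = 3 ∧ ∃ η ∈ D, η ∉ Inn G ∧ η * Φ σ ∈ A) := by
  classical
  by_cases hdiag : ∃ η ∈ D, η ∉ Inn G ∧ η ∈ A
  · obtain ⟨η, h1, h2, h3⟩ := hdiag
    exact Or.inl ⟨⟨η, h1, h2⟩, D_le D hidx h1 h2 hA h3⟩
  push Not at hdiag
  right
  obtain ⟨a₀, ha₀, σ₀, hφ₀A, hφ₀n⟩ : ∃ a ∈ D, ∃ σ : Γ, a * Φ σ ∈ A ∧ a * Φ σ ∉ Inn G := by
    rw [SetLike.le_def] at hne
    push Not at hne
    obtain ⟨θ, hθA, hθn⟩ := hne
    obtain ⟨g, a, ha, σ, rfl⟩ := hall θ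
    have e : a * Φ σ = (MulAut.conj g)⁻¹ * (MulAut.conj g * a * Φ σ) := by group
    refine ⟨a, ha, σ, ?_, fun h => hθn ?_⟩
    · rw [e]; exact mul_mem (inv_mem (hA ⟨g, rfl⟩)) hθA
    · rw [mul_assoc]; exact mul_mem ⟨g, rfl⟩ h
  have hσ1 : σ₀ ≠ 1 := by
    rintro rfl
    rw [map_one, mul_one] at hφ₀A hφ₀n
    exact hdiag a₀ ha₀ hφ₀n hφ₀A
  have hoP : orderOf σ₀ ≠ 1 := fun h => hσ1 (orderOf_eq_one_iff.1 h)
  obtain ⟨ℓ, hℓ, hℓd⟩ := Nat.exists_prime_and_dvd hoP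
  have hoℓ : orderOf (σ₀ ^ (orderOf σ₀ / ℓ)) = ℓ := orderOf_pow_orderOf_div (orderOf_pos σ₀).ne' hℓd
  obtain ⟨k, hk⟩ : ∃ k, k = orderOf σ₀ / ℓ := ⟨_, rfl⟩
  rw [← hk] at hoℓ
  obtain ⟨η, hηD, hφ⟩ := exists_pow Φ D hD ha₀ σ₀ k
  set σ := σ₀ ^ k with hσ
  have hφA : η * Φ σ ∈ A := by rw [← hφ]; exact pow_mem hφ₀A k
  by_cases hηI : η ∈ Inn G
  · left
    refine ⟨σ, by rw [hoℓ]; exact hℓ, cos_of_mem hA ?_⟩
    have : Φ σ = η⁻¹ * (η * Φ σ) := by group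
    rw [this]
    exact mul_mem (hA (inv_mem hηI)) hφA
  have hσℓ : σ ^ ℓ = 1 := by rw [← hoℓ]; exact pow_orderOf_eq_one σ
  have hφℓ : (η * Φ σ) ^ ℓ ∈ Inn G := by
    by_contra h
    obtain ⟨a', h1, h2⟩ := exists_pow Φ D hD hηD σ ℓ
    rw [hσℓ, map_one, mul_one] at h2
    refine hdiag a' h1 (h2 ▸ h) ?_
    rw [← h2]
    exact pow_mem hφA ℓ
  have hρℓ : Φ σ ^ ℓ = 1 := by rw [← map_pow, hσℓ, map_one]
  let mk := QuotientGroup.mk' (Inn G)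
  have hmk : ∀ a, mk a = 1 ↔ a ∈ Inn G := fun a => QuotientGroup.eq_one_iff a
  have hb3 : (mk η) ^ 3 = 1 := by rw [← map_pow, hmk]; exact cube_mem D hidx hηD hηI
  have hb1 : mk η ≠ 1 := fun h => hηI ((hmk η).1 h)
  have hr : ∃ i : ℤ, mk (Φ σ) * mk η * (mk (Φ σ))⁻¹ = mk η ^ i := by
    obtain ⟨i, hi⟩ := exists_zpow D hidx hηD hηI (hD σ η hηD)
    refine ⟨i, ?_⟩
    have h1 := (hmk _).2 hi
    rw [map_mul, map_inv, map_zpow, inv_mul_eq_one, map_mul, map_mul, map_inv] at h1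
    exact h1.symm
  have hrℓ : (mk (Φ σ)) ^ ℓ = 1 := by rw [← map_pow, hρℓ, map_one]
  have hbr : (mk η * mk (Φ σ)) ^ ℓ = 1 := by
    rw [← map_mul, ← map_pow, hmk]
    exact hφℓ
  rcases abs_conj hb3 hb1 hr hℓ hrℓ hbr with h3 | hcj
  · right
    exact ⟨σ, by rw [hoℓ, h3], η, hηD, hηI, hφA⟩
  · left
    refine ⟨σ, by rw [hoℓ]; exact hℓ, η⁻¹, fun x => ?_⟩
    have h1 : η * (η * Φ σ) * η⁻¹ * (Φ σ)⁻¹ ∈ Inn G := by
      rw [← hmk, map_mul, map_mul, map_mul, map_inv, map_inv, map_mul, hcj, mul_inv_cancel]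
    have h2 : η⁻¹ * (MulAut.conj x * Φ σ) * η⁻¹⁻¹ =
        (η⁻¹ * (MulAut.conj x * (η * (η * Φ σ) * η⁻¹ * (Φ σ)⁻¹)⁻¹) * η) * (η * Φ σ) := by group
    rw [h2]
    refine mul_mem (hA ?_) hφA
    have h3 : MulAut.conj x * (η * (η * Φ σ) * η⁻¹ * (Φ σ)⁻¹)⁻¹ ∈ Inn G := mul_mem ⟨x, rfl⟩ (inv_mem h1)
    have hnor : (Inn G).Normal := inferInstance
    have := hnor.conj_mem _ h3 η⁻¹
    rwa [inv_inv] at this

end Red

end Cfsg.Agent.H228.TE6
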