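import Cfsg.Agent.H228.TE6.Dia

/-!
# The diagonal automorphisms at the pair `{0, 5}` (helper228, for S3481)

`VT q c β` : `β` acts on the generators of `²E₆(q)` by the character `α₀ ↦ c`, `α₅ ↦ c ^ q`, `α_i ↦ 1` else.
-/

set_option autoImplicit false

namespace Cfsg.Agent.H228.TE6

open Cfsg Cfsg.Lie Cfsg.Agent.ChevalleyStructure Cfsg.Agent.ChevalleyStructure.Elts
open Cfsg.Agent.ChevalleyStructure.TwE6Basic (hE6 single_mem pair_mem)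

universe u

variable {K : Type u} [Field K]

/-- the action on the generators -/
structure VT (q : ℕ) (c : Kˣ) (β : MulAut ↥(twistedE6 K q)) : Prop where
  single : ∀ (t : K) (ht : t ^ q = t) (r : ℕ) (hr : r ∈ [46, 25, 39, 32]),
    ((β ⟨xG hE6 r t, single_mem ht hr⟩ : ↥(twistedE6 K q)) : GL chevE6.Idx K) = xG hE6 r t
  mid : ∀ (t : K) (rs : ℕ × ℕ) (hrs : rs ∈ [(56, 36), (15, 35), (42, 37), (29, 34)]), rs ∈ [(42, 37), (29, 34)] →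
    ((β ⟨xG hE6 rs.1 t * xG hE6 rs.2 (t ^ q), pair_mem t hrs⟩ : ↥(twistedE6 K q)) : GL chevE6.Idx K) =
      xG hE6 rs.1 t * xG hE6 rs.2 (t ^ q)
  pos : ∀ (t : K) (hrs : ((56, 36) : ℕ × ℕ) ∈ [(56, 36), (15, 35), (42, 37), (29, 34)]),
    ((β ⟨xG hE6 56 t * xG hE6 36 (t ^ q), pair_mem t hrs⟩ : ↥(twistedE6 K q)) : GL chevE6.Idx K) =
      xG hE6 56 (c * t) * xG hE6 36 ((c * t) ^ q)
  neg : ∀ (t : K) (hrs : ((15, 35) : ℕ × ℕ) ∈ [(56, 36), (15, 35), (42, 37), (29, 34)]),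
    ((β ⟨xG hE6 15 t * xG hE6 35 (t ^ q), pair_mem t hrs⟩ : ↥(twistedE6 K q)) : GL chevE6.Idx K) =
      xG hE6 15 ((c⁻¹ : Kˣ) * t) * xG hE6 35 (((c⁻¹ : Kˣ) * t) ^ q)

end Cfsg.Agent.H228.TE6
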