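import Cfsg.Agent.H228.TE6.Abs
import Cfsg.Agent.H166.OutTwESix

/-!
# The outer automorphisms of `²E₆(q)` (helper228, for S3481)

* `fldH` : the field automorphisms as a homomorphism `(K ≃+* K) →* Aut(²E₆(q))`;
* `Dg` : the diagonal automorphisms;
* `exists_dec` : every automorphism is inner · diagonal · field;
* `index_Dg` : `|Dg : Dg ∩ Inn| = (3, q + 1)`;
* `red` : the three alternatives.
-/

set_option autoImplicit false
set_option linter.unusedSectionVars false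

namespace Cfsg.Agent.H228.TE6

open scoped Pointwise
open CoxeterSystem Cfsg Cfsg.Agent.ChevalleyStructure.CoxeterGeom Cfsg.Agent.Tits.Roots Cfsg.Agent.Tits.Core
  Cfsg.Agent.Tits.Exchange Cfsg.Agent.Nodes.Reps Cfsg.Agent.Nodes.BNOf Cfsg.Agent.Nodes.StabComb
  Cfsg.Agent.Nodes.Bruhat Cfsg.Agent.Nodes.OppDec Cfsg.Agent.Nodes.RGDTwGen Cfsg.Agent.Nodes.RGDChev
  Cfsg.Agent.Nodes.RGDFold Cfsg.Agent.Nodes.RGDFoldSL
open Cfsg.Agent.KFacts.RgdOpp Cfsg.Agent.KFacts.RgdAut Cfsg.Agent.KFacts.RgdDiag Cfsg.Agent.KFacts.RgdRigid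
  Cfsg.Agent.KFacts.RgdField Cfsg.Agent.KFacts.RgdTau Cfsg.Agent.KFacts.RgdNodes
open Cfsg.Lie Cfsg.Agent.ChevalleyStructure Cfsg.Agent.ChevalleyStructure.Elts Cfsg.Agent.ChevStructure.FieldMap
open Cfsg.Agent.ChevalleyStructure.SL2Hom (up lo)
open Cfsg.Agent.KFacts.TwESix.NodeCoord Cfsg.Agent.KFacts.TwESix.Out Cfsg.Agent.KFacts.TwESix.OutTwo
open Cfsg.Agent.Nodes.RGDTwE6 Cfsg.Agent.Nodes.RGDTwNode.E6
open Cfsg.Agent.ChevalleyStructure.TwE6Basic (hE6 single_mem pair_mem twisted_le_iff exists_frob twisted_le_fix)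
open Cfsg.Agent.H70.ChevDiag Cfsg.Agent.H166.TwDiag Cfsg.Agent.H166.OutNodes Cfsg.Agent.H166.OutRGD
open Cfsg.Agent.H166.OutTwESix
open Cfsg.Agent.CpAut.RgdTwE6 (st rs st_up ntau_st ntau_of_ftau tau_phi coe_up map_tw)
open Cfsg.Agent.CpAut.RgdTwStd (glE_mul glE_one coe_fldG)

universe u

variable {K : Type u} [Field K]

/-- the field automorphisms -/
noncomputable def fldH (K : Type u) [Field K] [Fintype K] (q : ℕ) : (K ≃+* K) →* MulAut ↥(twistedE6 K q) where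
  toFun τ := st q τ
  map_one' := by
    apply MulEquiv.ext
    intro g
    apply Subtype.ext
    show glEquiv chevE6 (1 : K ≃+* K) (g : GL chevE6.Idx K) = g
    exact glE_one _
  map_mul' τ τ' := by
    apply MulEquiv.ext
    intro g
    apply Subtype.ext
    exact glE_mul τ τ' _

variable [Fintype K] {q : ℕ} 

theorem coe_fldH (τ : K ≃+* K) (g : ↥(twistedE6 K q)) :
    ((fldH K q τ g : ↥(twistedE6 K q)) : GL chevE6.Idx K) = glEquiv chevE6 τ (g : GL chevE6.Idx K) := rfl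

theorem finW : Finite CoxeterMatrix.F₄.Group :=
  Cfsg.Agent.Nodes.RGDFold.finite_W (hp := Cfsg.Agent.Nodes.RGDTwE6.hp) CoxeterMatrix.F₄.toCoxeterSystem
    Cfsg.Agent.Nodes.RGDTwE6.isCartan Cfsg.Agent.Nodes.RGDTwE6.foldData

section

variable {φ : K →+* K} (hφ : ∀ x, φ x = x ^ q) (hqq : ∀ t : K, (t ^ q) ^ q = t)
  (hK : Fintype.card K = q ^ 2) (hq1 : 1 < q)

/-- the frame -/
noncomputable abbrev Frm (K : Type u) [Field K] [Fintype K] (φ : K →+* K) (q : ℕ) : Subgroup (MulAut ↥(twistedE6 K q)) :=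
  Frame CoxeterMatrix.F₄.toCoxeterSystem isCartan (X φ q)

include hφ hqq hK hq1 in
theorem diag_of_frame (p : ℕ) [Fact p.Prime] [CharP K p] {β : MulAut ↥(twistedE6 K q)} (hβ : β ∈ Frm K φ q) :
    Diag (T K q) (X φ q) β 1 := by
  have := finW
  have R := Cfsg.Agent.Nodes.RGDTwE6.rgd CoxeterMatrix.F₄.toCoxeterSystem hφ hqq p
  obtain ⟨σ, D⟩ := exists_diag R (GG_eq_top (G1_top CoxeterMatrix.F₄.toCoxeterSystem hφ hqq)) hβ.1 hβ.2
  have h3 : σ = 1 := by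
    apply perm_F4 σ (D.matrix R)
    intro h3
    have h4 := Diag.card_eq D 0
    rw [h3] at h4
    exact card_ne hφ hqq hK hq1 h4
  subst h3
  exact D

/-- the diagonal automorphisms -/
noncomputable def Dg : Subgroup (MulAut ↥(twistedE6 K q)) where
  carrier := {β | β ∈ Frm K φ q ∧ ∃ c : ∀ i, (KF φ i)ˣ, ∀ i a,
    β (PhiE hφ hqq i (up a)) = PhiE hφ hqq i (up ((c i : KF φ i) * a))}
  mul_mem' := by
    rintro a b ⟨ha, c, hc⟩ ⟨hb, d, hd⟩
    refine ⟨mul_mem ha hb, fun i => c i * d i, fun i x => ?_⟩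
    rw [MulAut.mul_apply, hd, hc, Units.val_mul, mul_assoc]
  one_mem' := ⟨one_mem _, fun _ => 1, fun i a => by rw [Units.val_one, one_mul]; rfl⟩
  inv_mem' := by
    rintro a ⟨ha, c, hc⟩
    refine ⟨inv_mem ha, fun i => (c i)⁻¹, fun i x => ?_⟩
    apply a.injective
    rw [MulAut.apply_inv_self, hc, ← mul_assoc, ← Units.val_mul, mul_inv_cancel, Units.val_one, one_mul]

theorem mem_Dg {β : MulAut ↥(twistedE6 K q)} : β ∈ Dg hφ hqq ↔ β ∈ Frm K φ q ∧ ∃ c : ∀ i, (KF φ i)ˣ, ∀ i a,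
    β (PhiE hφ hqq i (up a)) = PhiE hφ hqq i (up ((c i : KF φ i) * a)) := Iff.rfl

include hK hq1 in
theorem Dg_ext (p : ℕ) [Fact p.Prime] [CharP K p] {β β' : MulAut ↥(twistedE6 K q)} (hβ : β ∈ Frm K φ q)
    (hβ' : β' ∈ Frm K φ q) (h : ∀ i a, β (PhiE hφ hqq i (up a)) = β' (PhiE hφ hqq i (up a))) : β = β' := by
  have := finW
  have R := Cfsg.Agent.Nodes.RGDTwE6.rgd CoxeterMatrix.F₄.toCoxeterSystem hφ hqq p
  have D : Diag (T K q) (X φ q) (β'⁻¹ * β) 1 := diag_of_frame hφ hqq hK hq1 p (mul_mem (inv_mem hβ') hβ)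
  have h5 := Diag.eq_one R (G1_top CoxeterMatrix.F₄.toCoxeterSystem hφ hqq) D (by
    intro i y hy
    obtain ⟨a, rfl⟩ := ((coordE hφ hqq i).mem y).1 hy
    show β'⁻¹ (β (PhiE hφ hqq i (up a))) = PhiE hφ hqq i (up a)
    rw [h, MulAut.inv_apply_self])
  exact (inv_mul_eq_one.1 h5).symm

include hK hq1 in
theorem card_Dg (p : ℕ) [Fact p.Prime] [CharP K p] : Nat.card ↥(Dg hφ hqq) = ∏ i, Nat.card (KF φ i)ˣ := by
  have := finW
  have R := Cfsg.Agent.Nodes.RGDTwE6.rgd CoxeterMatrix.F₄.toCoxeterSystem hφ hqq p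
  choose f hf1 hf2 using fun c : ∀ i, (KF φ i)ˣ => exists_dg hφ hqq c
  have hmem : ∀ c, f c ∈ Dg hφ hqq := fun c => ⟨mem_frame_of_diag R (hf1 c), c, hf2 c⟩
  rw [← Nat.card_pi]
  symm
  refine Nat.card_congr (Equiv.ofBijective (fun c => (⟨f c, hmem c⟩ : ↥(Dg hφ hqq))) ⟨?_, ?_⟩)
  · intro c c' h
    have h1 : f c = f c' := congrArg Subtype.val h
    funext i
    apply Units.ext
    have h2 := hf2 c i 1
    rw [h1, hf2 c' i 1, mul_one, mul_one] at h2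
    exact ((coordE hφ hqq i).inj h2).symm
  · rintro ⟨β, hβ, c, hc⟩
    refine ⟨c, Subtype.ext ?_⟩
    exact Dg_ext hφ hqq hK hq1 p (hmem c).1 hβ fun i a => by rw [hf2, hc]

include hK hq1 in
theorem conj_mem_Dg (p : ℕ) [Fact p.Prime] [CharP K p] {t : ↥(twistedE6 K q)} (ht : t ∈ T K q) :
    MulAut.conj t ∈ Dg hφ hqq := by
  have R := Cfsg.Agent.Nodes.RGDTwE6.rgd CoxeterMatrix.F₄.toCoxeterSystem hφ hqq p
  refine ⟨fix_conj_tor R ht, ?_⟩
  have h1 : ∀ i, chE hφ hqq i t ≠ 0 := by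
    intro i h0
    have h2 := (coordE hφ hqq i).act t ht 1
    rw [h0, zero_mul, (coordE hφ hqq i).zero, mul_inv_eq_one] at h2
    have h3 : PhiE hφ hqq i (up (1 : KF φ i)) = 1 := by
      have : t * PhiE hφ hqq i (up (1 : KF φ i)) = t * 1 := by rw [mul_one]; exact h2
      exact mul_left_cancel this
    exact (coordE hφ hqq i).ne_one one_ne_zero h3
  exact ⟨fun i => Units.mk0 _ (h1 i), fun i a => (coordE hφ hqq i).act t ht a⟩

include hK hq1 in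
theorem card_inn_Dg (p : ℕ) [Fact p.Prime] [CharP K p] (hq : IsPrimePow q) :
    Nat.card ((Inn ↥(twistedE6 K q)).subgroupOf (Dg hφ hqq)) = Nat.card ↥(T K q) := by
  have := finW
  have R := Cfsg.Agent.Nodes.RGDTwE6.rgd CoxeterMatrix.F₄.toCoxeterSystem hφ hqq p
  symm
  refine Nat.card_congr (Equiv.ofBijective (fun t : ↥(T K q) => (⟨⟨MulAut.conj t.1, conj_mem_Dg hφ hqq hK hq1 p t.2⟩,
    ⟨t.1, rfl⟩⟩ : ↥((Inn ↥(twistedE6 K q)).subgroupOf (Dg hφ hqq)))) ⟨?_, ?_⟩)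
  · intro a b hab
    have e : (MulAut.conj a.1 : MulAut ↥(twistedE6 K q)) = MulAut.conj b.1 := congrArg (fun z => z.1.1) hab
    have h1 : a.1 * b.1⁻¹ = 1 := by
      refine eq_one_of_central (Cfsg.Agent.S1070.result hq hK) fun y => ?_
      have h2 := congrArg (fun β : MulAut ↥(twistedE6 K q) => β (b.1⁻¹ * y * b.1)) e
      have h3 : a.1 * (b.1⁻¹ * y * b.1) * a.1⁻¹ = b.1 * (b.1⁻¹ * y * b.1) * b.1⁻¹ := h2
      have h4 : b.1 * (b.1⁻¹ * y * b.1) * b.1⁻¹ = y := by group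
      rw [h4, mul_inv_eq_iff_eq_mul] at h3
      calc a.1 * b.1⁻¹ * y = a.1 * (b.1⁻¹ * y * b.1) * b.1⁻¹ := by group
        _ = y * a.1 * b.1⁻¹ := by rw [h3]
        _ = y * (a.1 * b.1⁻¹) := by rw [mul_assoc]
    exact Subtype.ext (mul_inv_eq_one.1 h1)
  · rintro ⟨⟨β, hβ⟩, ⟨g, hg⟩⟩
    have hg' : MulAut.conj g = β := hg
    subst hg'
    have h1 : g ∈ T K q :=
      mem_T_of_frame R (GG_eq_top (G1_top CoxeterMatrix.F₄.toCoxeterSystem hφ hqq)) hβ.1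
    exact ⟨⟨g, h1⟩, rfl⟩

include hK in
theorem index_Dg (p : ℕ) [Fact p.Prime] [CharP K p] (hq : IsPrimePow q) :
    ((Inn ↥(twistedE6 K q)).subgroupOf (Dg hφ hqq)).index = Nat.gcd 3 (q + 1) := by
  have hq1 : 1 < q := hq.one_lt
  have h1 := Subgroup.card_mul_index ((Inn ↥(twistedE6 K q)).subgroupOf (Dg hφ hqq))
  rw [card_inn_Dg hφ hqq hK hq1 p hq, card_Dg hφ hqq hK hq1 p] at h1
  have h2 : ∏ i, Nat.card (KF φ i)ˣ = (q - 1) * (q - 1) * (q ^ 2 - 1) * (q ^ 2 - 1) := by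
    rw [Fin.prod_univ_four]
    show Nat.card (↥(Fx φ 1))ˣ * Nat.card (↥(Fx φ 1))ˣ * Nat.card (↥(Fx φ 2))ˣ * Nat.card (↥(Fx φ 2))ˣ = _
    rw [card_units_long hφ hK hq.one_lt, card_units_short hφ hqq hK]
  have h3 : Nat.card ↥(T K q) = Nat.card ↥(chevE6.diagonalSubgroup K ⊓ twistedE6 K q) :=
    Nat.card_congr (Subgroup.subgroupOfEquivOfLe inf_le_right).toEquiv
  have h4 := Cfsg.Agent.S1102.result (K := K) hq hK
  rw [← h3] at h4
  have h5 : (q - 1) * (q - 1) * (q ^ 2 - 1) * (q ^ 2 - 1) = (q - 1) ^ 4 * (q + 1) ^ 2 := by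
    have h6 : q ^ 2 - 1 = (q - 1) * (q + 1) := by
      have := Nat.sq_sub_sq q 1
      rw [one_pow] at this
      rw [this, mul_comm]
    rw [h6]; ring
  rw [h2, h5, ← h4] at h1
  have h7 : 0 < Nat.card ↥(T K q) := Nat.card_pos
  apply Nat.eq_of_mul_eq_mul_left h7
  rw [h1]; ring

include hK hq1 in
/-- The field automorphisms normalise `Dg`. -/
theorem fld_conj_mem (p : ℕ) [Fact p.Prime] [CharP K p] (τ : K ≃+* K) {a : MulAut ↥(twistedE6 K q)}
    (ha : a ∈ Dg hφ hqq) : fldH K q τ * a * (fldH K q τ)⁻¹ ∈ Dg hφ hqq := by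
  have := finW
  have R := Cfsg.Agent.Nodes.RGDTwE6.rgd CoxeterMatrix.F₄.toCoxeterSystem hφ hqq p
  obtain ⟨h1, c, hc⟩ := ha
  have hst : fldH K q τ ∈ Frm K φ q :=
    mem_frame_of_diag R (ntau_st hφ hqq τ CoxeterMatrix.F₄.toCoxeterSystem p).diag
  refine ⟨mul_mem (mul_mem hst h1) (inv_mem hst), fun i => Units.mapEquiv (rs hφ τ i).toMulEquiv (c i),
    fun i b => ?_⟩
  have e1 : (fldH K q τ)⁻¹ (PhiE hφ hqq i (up b)) = PhiE hφ hqq i (up ((rs hφ τ i).symm b)) := by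
    apply (fldH K q τ).injective
    rw [MulAut.apply_inv_self]
    show _ = st q τ _
    rw [st_up, RingEquiv.apply_symm_apply]
  show fldH K q τ (a ((fldH K q τ)⁻¹ (PhiE hφ hqq i (up b)))) = _
  rw [e1, hc]
  show st q τ _ = _
  rw [st_up, map_mul, RingEquiv.apply_symm_apply]
  rfl

include hK in
/-- **Every automorphism is inner · diagonal · field.** -/
theorem exists_dec (p : ℕ) [Fact p.Prime] [CharP K p] (hq : IsPrimePow q) (α : MulAut ↥(twistedE6 K q)) :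
    ∃ g : ↥(twistedE6 K q), ∃ a ∈ Dg hφ hqq, ∃ τ : K ≃+* K, α = MulAut.conj g * a * fldH K q τ := by
  have := finW
  have hq1 : 1 < q := hq.one_lt
  have R := Cfsg.Agent.Nodes.RGDTwE6.rgd CoxeterMatrix.F₄.toCoxeterSystem hφ hqq p
  have hG := GG_eq_top (T := T K q) (G1_top CoxeterMatrix.F₄.toCoxeterSystem hφ hqq)
  have hU := not_dvd_index hφ hqq CoxeterMatrix.F₄.toCoxeterSystem p
  obtain ⟨g, hg⟩ : ∃ g : ↥(twistedE6 K q), MulAut.conj g * α ∈ Frm K φ q := by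
    let S : Sylow p ↥(twistedE6 K q) := R.isPGroup_Upos.toSylow hU
    have hS : (S : Subgroup ↥(twistedE6 K q)) =
      RGD.Sup (X φ q) (RGD.Pos CoxeterMatrix.F₄.toCoxeterSystem isCartan) := rfl
    obtain ⟨x, hx⟩ := MulAction.exists_smul_eq ↥(twistedE6 K q) (α • S) S
    have h1 : (S : Subgroup ↥(twistedE6 K q)).map (MulAut.conj x * α).toMonoidHom = S := by
      have h2 := congrArg (fun S : Sylow p ↥(twistedE6 K q) => (S : Subgroup ↥(twistedE6 K q))) hx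
      simp only [Sylow.smul_def, Sylow.pointwise_smul_def] at h2
      rw [smul_smul] at h2
      exact h2
    have h2 : Fix (MulAut.conj x * α) (RGD.Sup (X φ q) (RGD.Pos CoxeterMatrix.F₄.toCoxeterSystem isCartan)) := by
      rw [fix_iff, ← hS]
      exact h1
    obtain ⟨u, hu, h3, -, h4, -⟩ := exists_frame R hG h2
    refine ⟨u * x, ?_⟩
    rw [map_mul, mul_assoc]
    exact ⟨h3, h4⟩
  set β := MulAut.conj g * α with hβ
  have D := diag_of_frame hφ hqq hK hq1 p hg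
  obtain ⟨τ, S⟩ := exists_ftau hφ hqq CoxeterMatrix.F₄.toCoxeterSystem p D
  choose c hc hx using fun i => NTau.semi (coordE hφ hqq) (ntau_of_ftau hφ hqq S) i
  have hst : fldH K q τ ∈ Frm K φ q :=
    mem_frame_of_diag R (ntau_st hφ hqq τ CoxeterMatrix.F₄.toCoxeterSystem p).diag
  refine ⟨g⁻¹, β * (fldH K q τ)⁻¹, ⟨mul_mem hg (inv_mem hst), fun i => Units.mk0 (c i) (hc i), fun i b => ?_⟩, τ, ?_⟩
  · have e1 : (fldH K q τ)⁻¹ (PhiE hφ hqq i (up b)) = PhiE hφ hqq i (up ((rs hφ τ i).symm b)) := by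
      apply (fldH K q τ).injective
      rw [MulAut.apply_inv_self]
      show _ = st q τ _
      rw [st_up, RingEquiv.apply_symm_apply]
    show β ((fldH K q τ)⁻¹ (PhiE hφ hqq i (up b))) = _
    rw [e1]
    have := hx i ((rs hφ τ i).symm b)
    rw [RingEquiv.apply_symm_apply] at this
    exact this
  · rw [hβ, map_inv]; group

/-- **The three alternatives for `²E₆(q)`.** -/
theorem red_tE6 (hK : Fintype.card K = q ^ 2) (p : ℕ) [Fact p.Prime] [CharP K p] (hq : IsPrimePow q)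
    {A : Subgroup (MulAut ↥(twistedE6 K q))} (hA : Inn ↥(twistedE6 K q) ≤ A) (hne : ¬ A ≤ Inn ↥(twistedE6 K q)) :
    ((∃ η ∈ Dg hφ hqq, η ∉ Inn ↥(twistedE6 K q)) ∧ Dg hφ hqq ≤ A) ∨
    (∃ τ : K ≃+* K, (orderOf τ).Prime ∧ Cos A (fldH K q τ)) ∨
    (∃ τ : K ≃+* K, orderOf τ = 3 ∧ ∃ η ∈ Dg hφ hqq, η ∉ Inn ↥(twistedE6 K q) ∧ η * fldH K q τ ∈ A) := by
  have hfin : Finite (K ≃+* K) := Finite.of_injective (fun f : K ≃+* K => (f : K → K)) DFunLike.coe_injective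
  have hidx : ((Inn ↥(twistedE6 K q)).subgroupOf (Dg hφ hqq)).index = 1 ∨
      ((Inn ↥(twistedE6 K q)).subgroupOf (Dg hφ hqq)).index = 3 := by
    rw [index_Dg hφ hqq hK p hq]
    exact (Nat.dvd_prime Nat.prime_three).1 (Nat.gcd_dvd_left 3 (q + 1))
  exact red (fldH K q) (Dg hφ hqq) hidx (fun τ a ha => fld_conj_mem hφ hqq hK hq.one_lt p τ ha)
    (fun α => exists_dec hφ hqq hK p hq α) hA hne

end

end Cfsg.Agent.H228.TE6
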