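import Cfsg.Agent.H228.TE6.Fix
import Cfsg.Agent.H228.TE6.Num
import Cfsg.Agent.H414.E6.Sit
import Cfsg.Agent.H378.TwAdj

/-!
# The cosets of the field automorphisms of `²E₆(q)` (helper228, for S3481)

* `not_two` : order 2; `not_five` : prime order `≥ 5`; `not_three` : order 3.
-/

set_option autoImplicit false
set_option linter.unusedSectionVars false

namespace Cfsg.Agent.H228.TE6

open CoxeterSystem Cfsg Cfsg.Lie Cfsg.Agent.ChevalleyStructure Cfsg.Agent.ChevalleyStructure.Elts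
open Cfsg.Agent.ChevalleyStructure.TwE6Basic (hE6 single_mem pair_mem twisted_le_iff exists_frob)
open Cfsg.Agent.CpAut.RgdSub (fixF mem_fixF card_fixF exists_root glm glm_coe glm_injective glm_xG)
open Cfsg.Agent.H414.E6 (Dat Sit)
open Cfsg.Agent.H166.OutTwESix (eq_one_of_central)

universe u

variable {K : Type u} [Field K] [Fintype K] {q : ℕ} (hq : IsPrimePow q) (hK : Fintype.card K = q ^ 2)

include hq hK

theorem conj_inj : Function.Injective (MulAut.conj : ↥(twistedE6 K q) →* MulAut ↥(twistedE6 K q)) := by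
  rw [injective_iff_map_eq_one]
  intro x hx
  refine eq_one_of_central (Cfsg.Agent.S1070.result hq hK) fun y => ?_
  have h1 : MulAut.conj x y = y := by rw [hx]; rfl
  rw [MulAut.conj_apply, mul_inv_eq_iff_eq_mul] at h1
  exact h1

theorem fldH_injective : Function.Injective (fldH K q) := by
  rw [injective_iff_map_eq_one]
  intro τ hτ
  obtain ⟨φ, hφ, hqq⟩ := exists_frob hq hK
  exact eq_one_of_Tc_mul_fld hφ hqq (c := 1) (by rw [map_one, one_mul, hτ])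

theorem orderOf_fldH (τ : K ≃+* K) : orderOf (fldH K q τ) = orderOf τ :=
  orderOf_injective (fldH K q) (fldH_injective hq hK) τ

/-- an element of the coset of a field automorphism -/
theorem cos_order {A : Subgroup (MulAut ↥(twistedE6 K q))}
    (hord : ∀ a ∈ A, ∃ y : ↥(twistedE6 K q), orderOf y = orderOf a) {τ : K ≃+* K} (hc : Cos A (fldH K q τ))
    {x : ↥(twistedE6 K q)} (hx : fldH K q τ x = x) (h : (orderOf x).Coprime (orderOf τ)) :
    ∃ y : ↥(twistedE6 K q), orderOf y = orderOf x * orderOf τ := by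
  obtain ⟨y, hy⟩ := hc.order_mul (conj_inj hq hK) hord hx (by rw [orderOf_fldH hq hK]; exact h)
  exact ⟨y, by rw [hy, orderOf_fldH hq hK]⟩

section Fields

variable {τ : K ≃+* K}

/-- the fixed field -/
theorem exists_q0 {ℓ : ℕ} (hℓ : ℓ.Prime) (hτ : orderOf τ = ℓ) (h2 : ℓ ≠ 2) : ∃ q0 : ℕ, IsPrimePow q0 ∧
    Nat.card ↥(fixF τ) = q0 ^ 2 ∧ q = q0 ^ ℓ ∧ ∀ t : ↥(fixF τ), t ^ q = t ^ q0 := by
  have h1 := card_fixF hℓ (by rw [← hτ]; exact pow_orderOf_eq_one τ) (by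
    rintro rfl
    rw [orderOf_one] at hτ
    exact hℓ.one_lt.ne hτ)
  rw [Nat.card_eq_fintype_card, hK] at h1
  have hk : 1 < Nat.card ↥(fixF τ) := Finite.one_lt_card
  obtain ⟨q0, hq0, h3, h4⟩ := exists_root hℓ Nat.prime_two h2 hq hk h1
  refine ⟨q0, hq0, h3, h4, fun t => ?_⟩
  have hodd : Odd ℓ := hℓ.odd_of_ne_two h2
  have : Fintype ↥(fixF τ) := Fintype.ofFinite _
  rw [h4]
  refine pow_odd hodd ?_
  have h5 := FiniteField.pow_card t
  rwa [← Nat.card_eq_fintype_card, h3] at h5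

end Fields

section Cosets

variable {D : Dat} (hε : D.ε = -1) (hD : D.q = q) (hM : Sit D ↥(twistedE6 K q))
  {A : Subgroup (MulAut ↥(twistedE6 K q))}
  (hord : ∀ a ∈ A, ∃ y : ↥(twistedE6 K q), orderOf y = orderOf a)

include hD hM hord in
/-- **The involutory field automorphism.** -/
theorem not_two {τ : K ≃+* K} (hτ : orderOf τ = 2) (hc : Cos A (fldH K q τ)) : False := by
  obtain ⟨s, hs, hsm, -, -⟩ := hM.exists_prime_m
  have hs2 : s ≠ 2 := by rintro rfl; exact D.m_odd hsm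
  have h1 := card_fixF Nat.prime_two (by rw [← hτ]; exact pow_orderOf_eq_one τ) (by
    rintro rfl
    rw [orderOf_one] at hτ
    norm_num at hτ)
  rw [Nat.card_eq_fintype_card, hK] at h1
  have hF : Nat.card ↥(fixF τ) = q := (Nat.pow_left_injective (n := 2) (by norm_num) h1).symm
  have : Fintype ↥(fixF τ) := Fintype.ofFinite _
  have hF' : Fintype.card ↥(fixF τ) = q := by rw [← Nat.card_eq_fintype_card, hF]
  obtain ⟨x, hx, hfx⟩ := exists_fixF4 (q := q) (F := ↥(fixF τ)) (fixF τ).subtype (fun t => by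
      have h5 := FiniteField.pow_card t
      rw [hF'] at h5
      exact congrArg Subtype.val h5) (τ := τ) (fun t => t.2) (n := s) (by
    have := Fact.mk hs
    apply exists_prime_orderOf_dvd_card' (G := ↥(chevF4.group ↥(fixF τ))) s
    rw [S1062.result (F := ↥(fixF τ)) (q := q) hF', ← hD]
    apply Dvd.dvd.mul_left
    refine hsm.trans ⟨(D.q ^ 6 - 1) * (D.q ^ 2 + 1), ?_⟩
    have h1 := D.m_add
    have h2 := D.two_le
    have h6 : 1 ≤ D.q ^ 6 := Nat.one_le_pow _ _ (by omega)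
    have h12 : 1 ≤ D.q ^ 12 := Nat.one_le_pow _ _ (by omega)
    zify [h6, h12]
    have hm : (D.m : ℤ) = (D.q : ℤ) ^ 4 - D.q ^ 2 + 1 := D.hm
    rw [hm]
    ring)
  obtain ⟨y, hy⟩ := cos_order hq hK hord hc hfx (by
    rw [hx, hτ]; exact (Nat.coprime_primes hs Nat.prime_two).2 hs2)
  rw [hx, hτ] at hy
  have := hM.tor y s hs hsm (hy ▸ dvd_mul_right s 2)
  rw [hy] at this
  exact D.e_odd ((Dvd.intro_left _ rfl).trans this)

omit hq hK in
include hε in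
/-- primes `≠ 3` of `q⁶ - q³ + 1` divide `n` -/
theorem dvd_n_of {r : ℕ} (hr : r.Prime) (h3 : r ≠ 3) (hd : (r : ℤ) ∣ (D.q : ℤ) ^ 6 - (D.q : ℤ) ^ 3 + 1) : r ∣ D.n := by
  have h1 := D.hn
  rw [hε, show (-1 : ℤ) * (D.q : ℤ) ^ 3 = -(D.q : ℤ) ^ 3 by ring, ← sub_eq_add_neg] at h1
  rw [← h1] at hd
  have hd' : r ∣ D.d * D.n := by exact_mod_cast hd
  rcases (hr.dvd_mul).1 hd' with h | h
  · exfalso
    rcases D.hd with hd' | hd' <;> rw [hd'] at h
    · exact hr.one_lt.ne' (Nat.dvd_one.1 h)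
    · exact h3 ((Nat.prime_dvd_prime_iff_eq hr Nat.prime_three).1 h)
  · exact h

omit hq hK in
/-- elements of prime order of `²E₆(q₀)` -/
theorem exists_of_dvd {K : Type u} [Field K] [Fintype K] {q : ℕ} (hq : IsPrimePow q) (hK : Fintype.card K = q ^ 2)
    {r : ℕ} (hr : r.Prime) (h3 : r ≠ 3) (hd : r ∣
      q ^ 36 * (q ^ 2 - 1) * (q ^ 5 + 1) * (q ^ 6 - 1) * (q ^ 8 - 1) * (q ^ 9 + 1) * (q ^ 12 - 1)) :
    ∃ x : ↥(twistedE6 K q), orderOf x = r := by
  have := Fact.mk hr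
  apply exists_prime_orderOf_dvd_card' (G := ↥(twistedE6 K q)) r
  rw [← S1066.result hq hK] at hd
  rcases (hr.dvd_mul).1 hd with h | h
  · exfalso
    exact h3 ((Nat.prime_dvd_prime_iff_eq hr Nat.prime_three).1 (h.trans (Nat.gcd_dvd_left _ _)))
  · exact h

omit hq hK in
theorem exists_two' {K : Type u} [Field K] [Fintype K] {q : ℕ} (hq : IsPrimePow q) (hK : Fintype.card K = q ^ 2) :
    ∃ x : ↥(twistedE6 K q), orderOf x = 2 := by
  refine exists_of_dvd hq hK Nat.prime_two (by norm_num) ?_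
  have h2 : 2 ∣ q ^ 36 * (q ^ 2 - 1) := by
    rcases Nat.even_or_odd q with h | h
    · exact Dvd.dvd.mul_right (dvd_pow h.two_dvd (by norm_num)) _
    · apply Dvd.dvd.mul_left
      have h1 : Odd (q ^ 2) := h.pow
      obtain ⟨k, hk⟩ := h1
      exact ⟨k, by omega⟩
  exact ((((h2.mul_right _).mul_right _).mul_right _).mul_right _).mul_right _

include hε hD hM hord in
/-- **Field automorphisms of prime order `≥ 5`.** -/
theorem not_five {τ : K ≃+* K} (hℓ : (orderOf τ).Prime) (h2 : orderOf τ ≠ 2) (h3 : orderOf τ ≠ 3)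
    (hc : Cos A (fldH K q τ)) : False := by
  obtain ⟨ℓ, hℓe⟩ : ∃ ℓ, orderOf τ = ℓ := ⟨_, rfl⟩
  rw [hℓe] at hℓ h3 h2
  obtain ⟨q0, hq0, hcF, hqq0, h0⟩ := exists_q0 hq hK hℓ hℓe h2
  have : Fintype ↥(fixF τ) := Fintype.ofFinite _
  have hcF' : Fintype.card ↥(fixF τ) = q0 ^ 2 := by rw [← Nat.card_eq_fintype_card, hcF]
  obtain ⟨r, hr, hr3, hor⟩ := exists_prime_eighteen hq0.two_le
  have hcop : Nat.Coprime 18 ℓ := by
    have e18 : 18 = 2 * (3 * 3) := by norm_num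
    rw [e18]
    have c2 := (Nat.coprime_primes Nat.prime_two hℓ).2 (Ne.symm h2)
    have c3 := (Nat.coprime_primes Nat.prime_three hℓ).2 (Ne.symm h3)
    exact Nat.Coprime.mul_left c2 (Nat.Coprime.mul_left c3 c3)
  have hrn : r ∣ D.n := by
    refine dvd_n_of hε hr hr3 ?_
    have h4 := eighteen_dvd hr hor hcop
    rw [← hqq0, ← hD] at h4
    exact h4
  have hrd : r ∣ q0 ^ 9 + 1 := by
    have h4 := eighteen_dvd (ℓ := 1) hr hor (by norm_num)
    rw [pow_one] at h4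
    have h5 : (r : ℤ) ∣ (q0 : ℤ) ^ 9 + 1 := by
      have e : (q0 : ℤ) ^ 9 + 1 = ((q0 : ℤ) ^ 6 - (q0 : ℤ) ^ 3 + 1) * ((q0 : ℤ) ^ 3 + 1) := by ring
      rw [e]
      exact h4.mul_right _
    exact_mod_cast h5
  obtain ⟨x, hx, hfx⟩ := exists_fix h0 (exists_of_dvd hq0 hcF' hr hr3 ((hrd.mul_left _).mul_right _))
  have hℓn : ℓ ∣ D.n := by
    by_cases hlr : r = ℓ
    · rw [← hlr]; exact hrn
    · obtain ⟨y, hy⟩ := cos_order hq hK hord hc hfx (by rw [hx, hℓe]; exact (Nat.coprime_primes hr hℓ).2 hlr)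
      rw [hx, hℓe] at hy
      have := hM.iso y r hr hrn (hy ▸ dvd_mul_right r ℓ)
      rw [hy] at this
      exact (Dvd.intro_left _ rfl).trans this
  obtain ⟨x2, hx2, hfx2⟩ := exists_fix h0 (exists_two' hq0 hcF')
  obtain ⟨y, hy⟩ := cos_order hq hK hord hc hfx2 (by
    rw [hx2, hℓe]; exact (Nat.coprime_primes Nat.prime_two hℓ).2 h2.symm)
  rw [hx2, hℓe] at hy
  have := hM.iso y ℓ hℓ hℓn (hy ▸ dvd_mul_left ℓ 2)
  rw [hy] at this
  exact D.n_odd ((Dvd.intro _ rfl).trans this)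

end Cosets

/-! ### order three -/

section Three

omit hq hK in
/-- the prime field -/
theorem exists_prime_field {p : ℕ} [Fact p.Prime] [CharP K p] (hpq : p ∣ q) (hq : IsPrimePow q) {τ : K ≃+* K} {n : ℕ}
    (h : ∃ x : ↥(chevF4.group (ZMod p)), orderOf x = n) :
    ∃ x : ↥(twistedE6 K q), orderOf x = n ∧ fldH K q τ x = x := by
  obtain ⟨p', k, hp', hk, hpk⟩ := id hq
  have hpp : p' = p := by
    rw [← hpk] at hpq
    exact ((Nat.prime_dvd_prime_iff_eq Fact.out hp'.nat_prime).1 (Nat.Prime.dvd_of_dvd_pow Fact.out hpq)).symm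
  subst hpp
  refine exists_fixF4 (ZMod.castHom (dvd_refl p') K) (fun t => ?_) (fun t => ?_) h
  · rw [← map_pow, ← hpk]
    congr 1
    exact ZMod.pow_card_pow t
  · exact congrArg (fun g : ZMod p' →+* K => g t)
      (Subsingleton.elim ((τ : K →+* K).comp (ZMod.castHom (dvd_refl p') K)) (ZMod.castHom (dvd_refl p') K))

variable {A : Subgroup (MulAut ↥(twistedE6 K q))}
  (hord : ∀ a ∈ A, ∃ y : ↥(twistedE6 K q), orderOf y = orderOf a)
  (hr8 : ∀ (q0 ℓ : ℕ), q = q0 ^ ℓ → Odd ℓ → ∀ τ : K ≃+* K, orderOf τ = ℓ → ∀ r : ℕ, r.Prime → r ≠ 2 →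
    r ∣ q0 ^ 4 + 1 → ∃ x : ↥(twistedE6 K q), orderOf x = r ∧ fldH K q τ x = x ∧
      ∀ (c : Kˣ) (β : MulAut ↥(twistedE6 K q)), VT q c β → β x = x)
  (h211 : 3 ∣ q + 1 → 2 ∣ q ∨ 11 ∣ q)
  (hA3 : 3 ∣ q → ∀ r, r.Prime → r ≠ 2 → r ∣ q ^ 4 + 1 → ∀ x : ↥(twistedE6 K q), orderOf x ≠ 3 * r)
  (hA4 : ∀ p, p.Prime → p ∣ q → p ≠ 3 → ¬ 3 ∣ q + 1 → ∀ r, r.Prime → orderOf ((q : ℕ) : ZMod r) = 10 →
    ∀ x : ↥(twistedE6 K q), orderOf x ≠ 3 * (p * r))
  (hA5 : 3 ∣ q + 1 → (2 ∣ q → ∀ x : ↥(twistedE6 K q), orderOf x ≠ 48) ∧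
    (11 ∣ q → ∀ x : ↥(twistedE6 K q), orderOf x ≠ 363))

omit hq hK in
open Cfsg.Agent.H493.PGE6T Cfsg.Agent.H378.TwAdj in
/-- elements of order `p r₁₀` -/
theorem exists_pr {K : Type u} [Field K] [Fintype K] {q : ℕ} (hq : IsPrimePow q) (hK : Fintype.card K = q ^ 2)
    {p r : ℕ} (hp : p.Prime) (hpq : p ∣ q) (hr : r.Prime) (hr3 : r ≠ 3)
    (hd : (r : ℤ) ∣ (q : ℤ) ^ 4 - (q : ℤ) ^ 3 + (q : ℤ) ^ 2 - q + 1) : ∃ x : ↥(twistedE6 K q), orderOf x = p * r := by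
  have hrg : ¬ r ∣ Nat.gcd 3 (q + 1) := fun h =>
    hr3 ((Nat.prime_dvd_prime_iff_eq hr Nat.prime_three).1 (h.trans (Nat.gcd_dvd_left _ _)))
  have hd' : (r : ℤ) ∣ Cfsg.Agent.H493.PGTorus.pv Cfsg.Agent.H493.PGCyc.c10 q := by
    rw [Cfsg.Agent.H493.PGCyc.pv_c10]
    exact hd
  obtain ⟨x, y, hx, hy, hc⟩ := pairE_p hq hK chainD_ok hThD eigD_10 (by decide) (by decide) fixD vanD_10 hr hp
    hrg hd' hpq
  have hne : p ≠ r := by
    rintro rfl
    have h1 : (p : ℤ) ∣ (q : ℤ) := by exact_mod_cast hpq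
    have h2 : (p : ℤ) ∣ (q : ℤ) ^ 4 - (q : ℤ) ^ 3 + (q : ℤ) ^ 2 - q := by
      have : (q : ℤ) ^ 4 - (q : ℤ) ^ 3 + (q : ℤ) ^ 2 - q = q * ((q : ℤ) ^ 3 - (q : ℤ) ^ 2 + q - 1) := by ring
      rw [this]
      exact h1.mul_right _
    have h3 : (p : ℤ) ∣ 1 := (Int.dvd_add_right h2).1 hd
    exact hp.one_lt.ne' (Nat.dvd_one.1 (by exact_mod_cast h3))
  refine ⟨y * x, ?_⟩
  rw [hc.symm.orderOf_mul_eq_mul_orderOf_of_coprime (by rw [hx, hy]; exact (Nat.coprime_primes hp hr).2 hne), hx, hy]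

include hord hr8 h211 hA3 hA4 hA5 in
/-- **Field automorphisms of order three.** -/
theorem not_three {τ : K ≃+* K} (hτ : orderOf τ = 3) (hc : Cos A (fldH K q τ)) : False := by
  obtain ⟨q0, hq0, hcF, hqq0, h0⟩ := exists_q0 hq hK Nat.prime_three hτ (by norm_num)
  have : Fintype ↥(fixF τ) := Fintype.ofFinite _
  have hcF' : Fintype.card ↥(fixF τ) = q0 ^ 2 := by rw [← Nat.card_eq_fintype_card, hcF]
  obtain ⟨p, hp, hpq⟩ := Nat.exists_prime_and_dvd hq.one_lt.ne'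
  have hpF : Fact p.Prime := ⟨hp⟩
  have hchar : CharP K p := by
    obtain ⟨p', hp'⟩ := CharP.exists K
    obtain ⟨m, hp'p, hcard⟩ := FiniteField.card K p'
    have h1 : p ∣ p' ^ (m : ℕ) := by
      rw [← hcard, hK]
      exact dvd_pow hpq (by norm_num)
    have h2 := (Nat.prime_dvd_prime_iff_eq hp hp'p).1 (hp.dvd_of_dvd_pow h1)
    rw [h2]
    exact hp'
  have hpq0 : p ∣ q0 := hp.dvd_of_dvd_pow (hqq0 ▸ hpq)
  by_cases hp3 : p = 3
  · -- characteristic three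
    obtain ⟨r, hr, hr2, hrd⟩ := exists_prime_eight hq0.two_le
    obtain ⟨x, hx, hfx, -⟩ := hr8 q0 3 hqq0 (by decide) τ hτ r hr hr2 hrd
    have hr3 : r ≠ 3 := (not_dvd_three hr hr2 hrd).1
    obtain ⟨y, hy⟩ := cos_order hq hK hord hc hfx (by rw [hx, hτ]; exact (Nat.coprime_primes hr Nat.prime_three).2 hr3)
    rw [hx, hτ] at hy
    exact hA3 (hp3 ▸ hpq) r hr hr2 (by rw [hqq0]; exact dvd_cube hrd) y (by rw [hy, mul_comm])
  by_cases h3q : 3 ∣ q + 1
  · -- unipotent elements of `F₄(p)`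
    have h5 := hA5 h3q
    rcases h211 h3q with h2 | h2
    · have hp2 : p = 2 := by
        obtain ⟨p', k, hp', hk, hpk⟩ := id hq
        rw [← hpk] at h2 hpq
        have e1 := (Nat.prime_dvd_prime_iff_eq hp hp'.nat_prime).1 (hp.dvd_of_dvd_pow hpq)
        have e2 := (Nat.prime_dvd_prime_iff_eq Nat.prime_two hp'.nat_prime).1 (Nat.prime_two.dvd_of_dvd_pow h2)
        rw [e1, e2]
      subst hp2
      obtain ⟨x, hx, hfx⟩ := exists_prime_field (K := K) hpq hq (τ := τ)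
        ((Cfsg.Agent.H351.F4Out.Elt.exists_order (F := ZMod 2) 2).1 rfl)
      obtain ⟨y, hy⟩ := cos_order hq hK hord hc hfx (by rw [hx, hτ]; norm_num)
      rw [hx, hτ] at hy
      exact h5.1 h2 y hy
    · have hp2 : p = 11 := by
        obtain ⟨p', k, hp', hk, hpk⟩ := id hq
        rw [← hpk] at h2 hpq
        have h11 : Nat.Prime 11 := by norm_num
        have e1 := (Nat.prime_dvd_prime_iff_eq hp hp'.nat_prime).1 (hp.dvd_of_dvd_pow hpq)
        have e2 := (Nat.prime_dvd_prime_iff_eq h11 hp'.nat_prime).1 (h11.dvd_of_dvd_pow h2)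
        rw [e1, e2]
      subst hp2
      obtain ⟨x, hx, hfx⟩ := exists_prime_field (K := K) hpq hq (τ := τ)
        ((Cfsg.Agent.H351.F4Out.Elt.exists_order (F := ZMod 11) 11).2.2.2 rfl)
      obtain ⟨y, hy⟩ := cos_order hq hK hord hc hfx (by rw [hx, hτ]; norm_num)
      rw [hx, hτ] at hy
      exact h5.2 h2 y hy
  · obtain ⟨r, hr, hr3, -, hrd, hro⟩ := exists_prime_ten hq0.two_le
    obtain ⟨x, hx, hfx⟩ := exists_fix h0 (exists_pr hq0 hcF' hp hpq0 hr hr3 hrd)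
    have hcop : (p * r).Coprime 3 := Nat.Coprime.mul_left ((Nat.coprime_primes hp Nat.prime_three).2 hp3)
      ((Nat.coprime_primes hr Nat.prime_three).2 hr3)
    obtain ⟨y, hy⟩ := cos_order hq hK hord hc hfx (by rw [hx, hτ]; exact hcop)
    rw [hx, hτ] at hy
    exact hA4 p hp hpq hp3 h3q r hr (by rw [hqq0]; exact hro) y (by rw [hy, mul_comm])

end Three

end Cfsg.Agent.H228.TE6
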