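import Cfsg.Agent.H228.TE6.Tor
import Cfsg.Agent.CpAut.RgdSub
import Cfsg.Agent.H129.FE.Grp
import Cfsg.Agent.H351.F4Out.Elt

/-!
# Subgroups of `²E₆(q)` fixed by field automorphisms (helper228, for S3481)

* `fe` : `²E₆(q₀) → ²E₆(q)`;
* `exists_fix`, `exists_fixF4`.
-/

set_option autoImplicit false
set_option linter.unusedSectionVars false

namespace Cfsg.Agent.H228.TE6

open Cfsg Cfsg.Lie Cfsg.Agent.ChevalleyStructure Cfsg.Agent.ChevalleyStructure.Elts Cfsg.Agent.ChevStructure.FieldMap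
open Cfsg.Agent.ChevalleyStructure.TwE6Basic (hE6 single_mem pair_mem twisted_le_iff)
open Cfsg.Agent.CpAut.RgdTwStd (glE_xG)
open Cfsg.Agent.CpAut.RgdSub (fixF mem_fixF card_fixF glm glm_coe glm_injective glm_xG)
open Cfsg.Agent.H129.CycT (typeF4 typeE6)
open Cfsg.Agent.H129.FE (xg toE6 toE6_xg mem_of_simple toTE6 coe_toTE6 toTE6_injective emb_xg)

universe u v

section Sub

variable {K : Type u} [Field K] [Fintype K] {q q0 : ℕ} {τ : K ≃+* K}

theorem pow_odd {F : Type u} [Field F] {q0 ℓ : ℕ} (hℓ : Odd ℓ) {t : F} (ht : t ^ q0 ^ 2 = t) :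
    t ^ q0 ^ ℓ = t ^ q0 := by
  obtain ⟨k, rfl⟩ := hℓ
  induction k with
  | zero => norm_num
  | succ k ih =>
    rw [show 2 * (k + 1) + 1 = 2 + (2 * k + 1) by ring, pow_add, pow_mul, ht, ih]

theorem glm_mem (h0 : ∀ t : ↥(fixF τ), t ^ q = t ^ q0) : ∀ g ∈ twistedE6 ↥(fixF τ) q0,
    glm chevE6 (fixF τ) g ∈ twistedE6 K q := by
  have key : twistedE6 ↥(fixF τ) q0 ≤ (twistedE6 K q).comap (glm chevE6 (fixF τ)) := by
    rw [twisted_le_iff]
    refine ⟨fun t ht r hr => ?_, fun t rs hrs => ?_⟩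
    · show glm chevE6 (fixF τ) (xG hE6 r t) ∈ twistedE6 K q
      rw [glm_xG]
      refine single_mem ?_ hr
      have h1 : t ^ q = t := (h0 t).trans ht
      exact congrArg Subtype.val h1
    · show glm chevE6 (fixF τ) (xG hE6 rs.1 t * xG hE6 rs.2 (t ^ q0)) ∈ twistedE6 K q
      rw [map_mul, glm_xG, glm_xG, ← h0 t]
      exact pair_mem (t : K) hrs
  exact fun g hg => key hg

/-- `²E₆(q₀) → ²E₆(q)` -/
noncomputable def fe (h0 : ∀ t : ↥(fixF τ), t ^ q = t ^ q0) : ↥(twistedE6 ↥(fixF τ) q0) →* ↥(twistedE6 K q) :=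
  ((glm chevE6 (fixF τ)).comp (twistedE6 ↥(fixF τ) q0).subtype).codRestrict (twistedE6 K q) fun x => glm_mem h0 _ x.2

theorem coe_fe (h0 : ∀ t : ↥(fixF τ), t ^ q = t ^ q0) (x : ↥(twistedE6 ↥(fixF τ) q0)) :
    ((fe h0 x : ↥(twistedE6 K q)) : GL chevE6.Idx K) = glm chevE6 (fixF τ) x := rfl

theorem fe_injective (h0 : ∀ t : ↥(fixF τ), t ^ q = t ^ q0) : Function.Injective (fe h0) := by
  intro x y h
  have h1 := congrArg (fun z : ↥(twistedE6 K q) => (z : GL chevE6.Idx K)) h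
  exact Subtype.ext (glm_injective _ h1)

theorem fld_fe (h0 : ∀ t : ↥(fixF τ), t ^ q = t ^ q0) (x : ↥(twistedE6 ↥(fixF τ) q0)) :
    fldH K q τ (fe h0 x) = fe h0 x := by
  apply Subtype.ext
  rw [coe_fldH]
  apply Units.ext
  rw [glEquiv_coe]
  ext i j
  exact (((x : GL chevE6.Idx ↥(fixF τ)) : Matrix chevE6.Idx chevE6.Idx ↥(fixF τ)) i j).2

/-- elements of `²E₆(q₀)` give elements fixed by `τ` -/
theorem exists_fix (h0 : ∀ t : ↥(fixF τ), t ^ q = t ^ q0) {n : ℕ} (h : ∃ x : ↥(twistedE6 ↥(fixF τ) q0), orderOf x = n) :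
    ∃ x : ↥(twistedE6 K q), orderOf x = n ∧ fldH K q τ x = x := by
  obtain ⟨x, hx⟩ := h
  exact ⟨fe h0 x, by rw [orderOf_injective (fe h0) (fe_injective h0) x, hx], fld_fe h0 x⟩

end Sub

section F4

variable {K : Type u} [Field K] [Fintype K] {q : ℕ} {F : Type v} [Field F] [Finite F] (f : F →+* K)
  (hf : ∀ t, f t ^ q = f t) {τ : K ≃+* K}

theorem fld_toTE6 (hτ : ∀ t, τ (f t) = f t) (x : ↥(chevF4.group F)) : fldH K q τ (toTE6 f hf x) = toTE6 f hf x := by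
  let S : Subgroup ↥(twistedE6 K q) := (fldH K q τ).toMonoidHom.eqLocus (MonoidHom.id _)
  have key : ∀ (r : ℕ) (t : F), toTE6 f hf (xg F typeF4.inList r t) ∈ S := by
    intro r t
    show fldH K q τ (toTE6 f hf (xg F typeF4.inList r t)) = toTE6 f hf (xg F typeF4.inList r t)
    apply Subtype.ext
    rw [coe_fldH, coe_toTE6, emb_xg, toE6_xg]
    show glEquiv chevE6 τ (xG typeE6.inList _ _ * xG typeE6.inList _ _) = xG typeE6.inList _ _ * xG typeE6.inList _ _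
    rw [map_mul, glE_xG, glE_xG, map_mul, map_intCast, hτ]
  exact mem_of_simple typeF4 F (toTE6 f hf) S (fun i _ t => key _ t) (fun i _ t => key _ t) x

include f hf in
theorem exists_fixF4 (hτ : ∀ t, τ (f t) = f t) {n : ℕ} (h : ∃ x : ↥(chevF4.group F), orderOf x = n) :
    ∃ x : ↥(twistedE6 K q), orderOf x = n ∧ fldH K q τ x = x := by
  obtain ⟨x, hx⟩ := h
  exact ⟨toTE6 f hf x, by rw [orderOf_injective (toTE6 f hf) (toTE6_injective f hf) x, hx], fld_toTE6 f hf hτ x⟩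

end F4

end Cfsg.Agent.H228.TE6
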